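-- Copy of Groth/Agent/H26/DepthInf.lean (by helper26), re-namespaced under H58 so that H58 modules are self-contained.
import Groth.Agent.H58.X15.DepthLoc

set_option autoImplicit false
set_option linter.unusedSectionVars false
universe u

open RingTheory.Sequence Groth.Agent.H58.X15

namespace Groth.Agent.H58.X26

variable {A : Type u} [CommRing A] [IsNoetherianRing A] (I : Ideal A)
  (M : Type u) [AddCommGroup M] [Module A M] [Module.Finite A M]

/-- regular sequences from depth of localizations (argument of helper15's S2854) -/
lemma exists_isWeaklyRegular_of_le_depth_localization (r : ℕ) :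
    ∀ (M : Type u) [AddCommGroup M] [Module A M] [Module.Finite A M],
    (∀ (p : Ideal A) [p.IsPrime], I ≤ p →
        (r : ℕ∞) ≤ LocCoh.depth (Localization.AtPrime p) (LocalizedModule p.primeCompl M)) →
      ∃ fs : List A, fs.length = r ∧ (∀ f ∈ fs, f ∈ I) ∧ IsWeaklyRegular M fs := by
  induction r with
  | zero => intro M _ _ _ _; exact ⟨[], rfl, by simp, IsWeaklyRegular.nil A M⟩
  | succ r ih =>
    intro M _ _ _ h
    obtain ⟨x, hxI, hx⟩ := exists_isSMulRegular_of_depth_pos M I (by
      intro p _ hIp
      refine le_trans ?_ (h p hIp)
      exact_mod_cast Nat.succ_le_succ (Nat.zero_le r))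
    obtain ⟨fs, hlen, hmem, hreg⟩ := ih (QuotSMulTop x M) (by
      intro p _ hIp
      exact le_depth_localization_quotSMulTop M p x (hIp hxI) hx r (h p hIp))
    refine ⟨x :: fs, by simp [hlen], ?_, IsWeaklyRegular.cons hx hreg⟩
    intro f hf
    rcases List.mem_cons.mp hf with rfl | hf
    · exact hxI
    · exact hmem f hf

lemma length_le_depth_localization (fs : List A) (hmem : ∀ f ∈ fs, f ∈ I)
    (hreg : IsWeaklyRegular M fs) (p : Ideal A) [p.IsPrime] (hIp : I ≤ p) :
    (fs.length : ℕ∞) ≤ LocCoh.depth (Localization.AtPrime p) (LocalizedModule p.primeCompl M) := by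
  have h1 : IsWeaklyRegular (LocalizedModule p.primeCompl M)
      (fs.map (algebraMap A (Localization.AtPrime p))) :=
    hreg.of_isLocalizedModule (Localization.AtPrime p) p.primeCompl
      (LocalizedModule.mkLinearMap p.primeCompl M)
  have h2 := le_idealDepth
    (IsLocalRing.maximalIdeal (Localization.AtPrime p)) (LocalizedModule p.primeCompl M) h1 (by
      intro y hy
      obtain ⟨a, ha, rfl⟩ := List.mem_map.mp hy
      exact (IsLocalization.AtPrime.to_map_mem_maximal_iff (Localization.AtPrime p) p a).mpr
        (hIp (hmem a ha)))
  rw [List.length_map] at h2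
  exact h2

/-- if `IM = M` then the localizations at primes containing `I` have infinite depth -/
lemma depth_localization_eq_top (hIM : I • (⊤ : Submodule A M) = ⊤) (p : Ideal A) [p.IsPrime]
    (hIp : I ≤ p) :
    LocCoh.depth (Localization.AtPrime p) (LocalizedModule p.primeCompl M) = ⊤ := by
  unfold LocCoh.depth
  apply idealDepth_eq_top_of_smul_top_eq
  rw [eq_top_iff]
  intro x _
  induction x using LocalizedModule.induction_on with
  | h m s =>
    have hm : m ∈ I • (⊤ : Submodule A M) := by rw [hIM]; trivial
    refine Submodule.smul_induction_on (p := fun m => ∀ s : p.primeCompl,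
      LocalizedModule.mk m s ∈ IsLocalRing.maximalIdeal (Localization.AtPrime p) •
        (⊤ : Submodule (Localization.AtPrime p) (LocalizedModule p.primeCompl M))) hm ?_ ?_ s
    · intro a ha n _ s
      have : LocalizedModule.mk (a • n) s =
          (algebraMap A (Localization.AtPrime p) a) • LocalizedModule.mk n s := by
        rw [algebraMap_smul, LocalizedModule.smul'_mk]
      rw [this]
      refine Submodule.smul_mem_smul ?_ Submodule.mem_top
      exact (IsLocalization.AtPrime.to_map_mem_maximal_iff (Localization.AtPrime p) p a).mpr
        (hIp ha)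
    · intro m n hm hn s
      have : LocalizedModule.mk (m + n) s =
          LocalizedModule.mk m s + LocalizedModule.mk n s := by
        rw [LocalizedModule.mk_add_mk, ← smul_add, LocalizedModule.mk_cancel_common_left]
      rw [this]
      exact add_mem (hm s) (hn s)


theorem idealDepth_eq_iInf_depth_localization :
    LocCoh.idealDepth I M = ⨅ (p : PrimeSpectrum A) (_ : I ≤ p.asIdeal),
      LocCoh.depth (Localization.AtPrime p.asIdeal) (LocalizedModule p.asIdeal.primeCompl M) := by
  apply le_antisymm
  · refine le_iInf₂ fun p hp => ?_
    by_cases hIM : I • (⊤ : Submodule A M) = ⊤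
    · rw [depth_localization_eq_top I M hIM p.asIdeal hp]
      exact le_top
    · apply idealDepth_le_of_forall I M hIM
      intro rs hreg hmem
      exact length_le_depth_localization I M rs hmem hreg p.asIdeal hp
  · rw [← ENat.forall_natCast_le_iff_le]
    intro n hn
    obtain ⟨fs, hlen, hmem, hreg⟩ := exists_isWeaklyRegular_of_le_depth_localization I n M (by
      intro p hp hIp
      exact hn.trans (iInf₂_le (⟨p, hp⟩ : PrimeSpectrum A) hIp))
    rw [← hlen]
    exact le_idealDepth I M hreg hmem

end Groth.Agent.H58.X26
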